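import Groth.Agent.Lib.KCoh4.Filt
import Groth.Agent.Lib.VarDim.Fibre
import Groth.Agent.Lib.SecDiv18.Peel
import Groth.Agent.Lib.DivDesc12.Point
import Groth.Prelude.Def_SGA6

/-! # The rank homomorphism on the K-group of coherent modules -/

set_option autoImplicit false
set_option linter.style.haveILetI false
set_option backward.isDefEq.respectTransparency false

universe u

open CategoryTheory CategoryTheory.Limits AlgebraicGeometry TopologicalSpace

noncomputable section

namespace Groth.Agent.KRank26

open Groth.Agent Groth.Agent.KCoh4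
open scoped Classical

variable {X : Scheme.{u}}

abbrev Max (X : Scheme.{u}) : Type u := {x : X // ringKrullDim (X.presheaf.stalk x) = 0}

abbrev len (F : X.Modules) (x : X) : ℤ :=
  ((Module.length (X.presheaf.stalk x) (F.presheaf.stalk x)).toNat : ℤ)

variable [IsNoetherian X]

theorem finite_max : Finite (Max X) := by
  obtain ⟨G, hG⟩ := VarDim.exists_finite_generic (X := X) (C := Set.univ) isClosed_univ
  have hfin : {x : X | ringKrullDim (X.presheaf.stalk x) = 0}.Finite := by
    refine G.finite_toSet.subset fun x hx => ?_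
    obtain ⟨g, hg, hgx⟩ := (hG x).1 trivial
    have he := DivDesc12.eq_of_specializes_of_dim_le_zero (le_of_eq hx) g hgx
    exact he ▸ hg
  exact hfin.to_subtype

theorem len_eq_zero {F : X.Modules} {x : X} (h : x ∉ CohB1.support F) : len F x = 0 := by
  haveI : Subsingleton (F.presheaf.stalk x) := not_not.1 h
  simp [len, Module.length_eq_zero]

/-- Classes supported in codimension at least one. -/
def coniveau (X : Scheme.{u}) : AddSubgroup (SGA6.Kcoh X) :=
  AddSubgroup.closure {c : SGA6.Kcoh X | ∃ F : X.Modules, Coh.IsCoh F ∧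
    (∀ x ∈ CohB1.support F, (1 : WithBot ℕ∞) ≤ ringKrullDim (X.presheaf.stalk x)) ∧
    c = KZero.clSub (fun M : X.Modules => Coh.IsCoh M) F}

theorem exists_rank :
    ∃ rk : SGA6.Kcoh X →+ (Max X → ℤ), ∀ F : X.Modules, Coh.IsCoh F →
      rk (KZero.clSub (fun M : X.Modules => Coh.IsCoh M) F) = fun x => len F x.1 := by
  refine ⟨K0Cat.liftSub (P := fun M : X.Modules => Coh.IsCoh M) (fun F => fun x : Max X => len F.1 x.1)
    fun S h₁ h₂ h₃ hS => funext fun x => ?_, fun F hF => K0Cat.liftSub_clSub _ _ hF⟩
  have h := NumPoly18.lenAt_shortExact hS h₁ h₃ (ξ := x.1) fun y _ hy =>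
    DivDesc12.eq_of_specializes_of_dim_le_zero (le_of_eq x.2) y hy
  simp only [NumPoly18.lenAt] at h
  show len S.X₂ x.1 = len S.X₁ x.1 + len S.X₃ x.1
  simp only [len]
  exact_mod_cast h

theorem surjective_and_ker (rk : SGA6.Kcoh X →+ (Max X → ℤ))
    (hrk : ∀ F : X.Modules, Coh.IsCoh F →
      rk (KZero.clSub (fun M : X.Modules => Coh.IsCoh M) F) = fun x => len F x.1) :
    Function.Surjective rk ∧ rk.ker = coniveau X := by
  haveI := finite_max (X := X)
  letI := Fintype.ofFinite (Max X)
  let T : Max X → SGA6.Kcoh X := fun η => kc (NumPoly18.ptMod η.1)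
  have hsingle : ∀ η : Max X, rk (T η) = Pi.single η 1 := fun η => by
    rw [hrk _ (NumPoly18.isCoh_ptMod η.1)]
    funext x
    by_cases h : x = η
    · subst h
      rw [Pi.single_eq_same]
      have := NumPoly18.lenAt_ptMod_self x.1
      simp only [NumPoly18.lenAt] at this
      simp only [len]
      exact_mod_cast this
    · rw [Pi.single_eq_of_ne h]
      refine len_eq_zero fun hx => h (Subtype.ext ?_)
      exact (DivDesc12.eq_of_specializes_of_dim_le_zero (le_of_eq x.2) η.1
        (specializes_iff_mem_closure.2 (NumPoly18.support_ptMod η.1 hx))).symm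
  let comb : (Max X → ℤ) → SGA6.Kcoh X := fun v => ∑ η, v η • T η
  have hcomb : ∀ v, rk (comb v) = v := fun v => by
    rw [_root_.map_sum]
    conv_rhs => rw [← Finset.univ_sum_single v]
    refine Finset.sum_congr rfl fun η _ => ?_
    rw [map_zsmul, hsingle, ← Pi.single_smul, smul_eq_mul, mul_one]
  refine ⟨fun v => ⟨comb v, hcomb v⟩, le_antisymm (fun y hy => ?_) ?_⟩
  swap
  · refine (AddSubgroup.closure_le _).2 ?_
    rintro _ ⟨F, hF, hs, rfl⟩
    rw [SetLike.mem_coe, AddMonoidHom.mem_ker, hrk F hF]
    funext x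
    refine len_eq_zero fun hx => ?_
    have := hs _ hx
    rw [x.2] at this
    exact absurd this (by decide)
  have key : ∀ z : SGA6.Kcoh X, z - comb (rk z) ∈ coniveau X := by
    have hadd : ∀ a b, comb (a + b) = comb a + comb b := fun a b => by
      simp only [comb, Pi.add_apply, add_smul, Finset.sum_add_distrib]
    let φ : SGA6.Kcoh X →+ SGA6.Kcoh X :=
      AddMonoidHom.id _ - (AddMonoidHom.mk' comb hadd).comp rk
    let H := (coniveau X).comap φ
    suffices h : ∀ F : X.Modules, Coh.IsCoh F → kc F ∈ H by
      intro z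
      refine K0Cat.clSub_induction (P := fun M : X.Modules => Coh.IsCoh M) (p := fun z => z ∈ H) z
        (AddSubgroup.zero_mem _) h ?_ ?_
      · exact fun a ha => AddSubgroup.neg_mem _ ha
      · exact fun a b ha hb => AddSubgroup.add_mem _ ha hb
    intro F hF
    refine mem_of_support H (Z₀ := Set.univ) (fun η _ => ?_) hF (Set.subset_univ _)
    show φ (kc (NumPoly18.ptMod η)) ∈ coniveau X
    by_cases hη : ringKrullDim (X.presheaf.stalk η) = 0
    · have h1 : rk (T ⟨η, hη⟩) = Pi.single ⟨η, hη⟩ 1 := hsingle _
      have h2 : comb (Pi.single ⟨η, hη⟩ 1) = T ⟨η, hη⟩ := by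
        simp only [comb]
        rw [Finset.sum_eq_single (⟨η, hη⟩ : Max X) (fun b _ hb => by rw [Pi.single_eq_of_ne hb, zero_smul])
          (fun h => absurd (Finset.mem_univ _) h), Pi.single_eq_same, one_smul]
      show T ⟨η, hη⟩ - comb (rk (T ⟨η, hη⟩)) ∈ _
      rw [h1, h2, sub_self]
      exact AddSubgroup.zero_mem _
    · have hone : ∀ x ∈ CohB1.support (NumPoly18.ptMod η), (1 : WithBot ℕ∞) ≤ ringKrullDim (X.presheaf.stalk x) := by
        intro x hx
        refine le_trans ?_ (SecDiv.ringKrullDim_stalk_mono (specializes_iff_mem_closure.2 (NumPoly18.support_ptMod η hx)))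
        have hnn : (0 : WithBot ℕ∞) ≤ ringKrullDim (X.presheaf.stalk η) := ringKrullDim_nonneg_of_nontrivial
        revert hnn hη
        generalize ringKrullDim (X.presheaf.stalk η) = d
        intro hne hnn
        cases d with
        | bot => simp at hnn
        | coe m =>
          have : m ≠ 0 := fun e => hne (by rw [e]; rfl)
          exact WithBot.coe_le_coe.2 (ENat.one_le_iff_ne_zero.2 this)
      have h0 : rk (kc (NumPoly18.ptMod η)) = 0 := by
        rw [hrk _ (NumPoly18.isCoh_ptMod η)]
        funext x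
        refine len_eq_zero fun hx => ?_
        have := hone _ hx
        rw [x.2] at this
        exact absurd this (by decide)
      show kc (NumPoly18.ptMod η) - comb (rk (kc (NumPoly18.ptMod η))) ∈ _
      rw [h0, show comb 0 = 0 from by simp [comb], sub_zero]
      exact AddSubgroup.subset_closure ⟨_, NumPoly18.isCoh_ptMod η, hone, rfl⟩
  have := key y
  rwa [AddMonoidHom.mem_ker.1 hy, show comb 0 = 0 from by simp [comb], sub_zero] at this

end Groth.Agent.KRank26
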